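import Cfsg.Agent.Lib.ZStar.UniqueCase
import Cfsg.Agent.S0205
import Mathlib

/-!
In characteristic two a non-abelian simple linear group has a non-trivial element fixing a subspace
pointwise and another element leaving that subspace invariant without fixing it pointwise.
-/

set_option autoImplicit false

namespace Cfsg.Agent.Lib.ExtremePrim64

set_option linter.unusedSectionVars false

variable {T : Type*} [Group T] [Finite T] {E W : Type*} [Field E] [AddCommGroup W] [Module E W]

theorem rep_inv_apply (ρ : Representation E T W) (g : T) (w : W) : ρ g⁻¹ (ρ g w) = w := by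
  rw [← Module.End.mul_apply, ← map_mul, inv_mul_cancel, map_one, Module.End.one_apply]

theorem rep_apply_inv (ρ : Representation E T W) (g : T) (w : W) : ρ g (ρ g⁻¹ w) = w := by
  rw [← Module.End.mul_apply, ← map_mul, mul_inv_cancel, map_one, Module.End.one_apply]

theorem rep_mul_apply (ρ : Representation E T W) (g h : T) (w : W) : ρ (g * h) w = ρ g (ρ h w) := by
  rw [map_mul]; rfl

/-- The fixed space of an element. -/
def fixSp (ρ : Representation E T W) (g : T) : Submodule E W where
  carrier := {w | ρ g w = w}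
  add_mem' := fun {a b} ha hb => by simp only [Set.mem_ofPred_eq] at ha hb ⊢; rw [map_add, ha, hb]
  zero_mem' := map_zero _
  smul_mem' := fun c a ha => by simp only [Set.mem_ofPred_eq] at ha ⊢; rw [map_smul, ha]

theorem mem_fixSp {ρ : Representation E T W} {g : T} {w : W} :
    w ∈ fixSp ρ g ↔ ρ g w = w := Iff.rfl

theorem even_card [IsSimpleGroup T] (hna : ¬ ∀ a b : T, a * b = b * a) : Even (Nat.card T) := by
  by_contra h
  rw [Nat.not_even_iff_odd] at h
  have hs : Group.IsSolvable T := Cfsg.Agent.S0205.result h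
  exact hna (IsSimpleGroup.comm_iff_isSolvable.2 hs)

theorem exists_moved [IsSimpleGroup T] [Finite W] (hna : ¬ ∀ a b : T, a * b = b * a)
    (ρ : Representation E T W) (hρ : Function.Injective ρ) (h2 : ∀ w : W, w + w = 0) :
    ∃ (L : Submodule E W) (h g : T), h ≠ 1 ∧ (∀ x ∈ L, ρ h x = x) ∧ (∀ x ∈ L, ρ g x ∈ L) ∧
      ∃ x ∈ L, ρ g x ≠ x := by
  classical
  by_contra hcon
  have law : ∀ (L : Submodule E W) (h g : T), h ≠ 1 → (∀ x ∈ L, ρ h x = x) →
      (∀ x ∈ L, ρ g x ∈ L) → ∀ x ∈ L, ρ g x = x := by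
    intro L h g h1 hfix hg x hx
    by_contra hne
    exact hcon ⟨L, h, g, h1, hfix, hg, x, hx, hne⟩
  -- elements normalising `u` fix its fixed space pointwise
  have hnorm : ∀ (u g : T), u ≠ 1 → (g * u = u * g ∨ g * u = u⁻¹ * g) →
      ∀ x, ρ u x = x → ρ g x = x := by
    intro u g hu hgu x hx
    refine law (fixSp ρ u) u g hu (fun y hy => hy) (fun y hy => ?_) x hx
    rw [mem_fixSp] at hy ⊢
    have hyi : ρ u⁻¹ y = y := by conv_lhs => rw [← hy, rep_inv_apply]
    rcases hgu with h | h
    · rw [← rep_mul_apply, ← h, rep_mul_apply, hy]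
    · have h' : u * g = g * u⁻¹ := by
        have := congrArg (fun z => u * z * u⁻¹) h
        calc u * g = u * (g * u) * u⁻¹ := by group
          _ = u * (u⁻¹ * g) * u⁻¹ := this
          _ = g * u⁻¹ := by group
      rw [← rep_mul_apply, h', rep_mul_apply, hyi]
  obtain ⟨z₀, hz₀⟩ : ∃ z : T, orderOf z = 2 := by
    haveI : Fact (Nat.Prime 2) := ⟨Nat.prime_two⟩
    exact exists_prime_orderOf_dvd_card' 2 (even_iff_two_dvd.1 (even_card hna))
  let μ := Nat.card (fixSp ρ z₀)
  let I0 : Set T := {t | orderOf t = 2 ∧ Nat.card (fixSp ρ t) = μ}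
  have hz0I : z₀ ∈ I0 := ⟨hz₀, rfl⟩
  have hne1 : ∀ t ∈ I0, t ≠ 1 := fun t ht h => by
    have := ht.1; rw [h, orderOf_one] at this; omega
  have hsq : ∀ t ∈ I0, t⁻¹ = t := fun t ht => by
    have h := pow_orderOf_eq_one t
    rw [ht.1, sq] at h
    exact inv_eq_of_mul_eq_one_right h
  have hconjfix : ∀ (g t : T) (x : W), x ∈ fixSp ρ (g * t * g⁻¹) ↔ ρ g⁻¹ x ∈ fixSp ρ t := by
    intro g t x
    rw [mem_fixSp, mem_fixSp, rep_mul_apply, rep_mul_apply]
    constructor
    · intro h
      conv_rhs => rw [← h]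
      rw [rep_inv_apply]
    · intro h
      rw [h, rep_apply_inv]
  have hconjI : ∀ g, ∀ t ∈ I0, g * t * g⁻¹ ∈ I0 := by
    intro g t ht
    refine ⟨(((MulAut.conj g).orderOf_eq t).trans ht.1), ?_⟩
    rw [← ht.2]
    exact Nat.card_congr
      { toFun := fun x => ⟨ρ g⁻¹ x.1, (hconjfix g t x.1).1 x.2⟩
        invFun := fun y => ⟨ρ g y.1, (hconjfix g t _).2 (by rw [rep_inv_apply]; exact y.2)⟩
        left_inv := fun x => Subtype.ext (rep_apply_inv ρ g x.1)
        right_inv := fun y => Subtype.ext (rep_inv_apply ρ g y.1) }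
  -- an element of `I0` fixing a maximal fixed space has exactly that fixed space
  have hle : ∀ s ∈ I0, ∀ t ∈ I0, fixSp ρ t ≤ fixSp ρ s → fixSp ρ t = fixSp ρ s := by
    intro s hs t ht h
    apply SetLike.coe_injective
    refine Set.eq_of_subset_of_ncard_le h ?_ (Set.toFinite _)
    rw [← Nat.card_coe_set_eq, ← Nat.card_coe_set_eq]
    exact (hs.2.trans ht.2.symm).le
  have himg : ∀ t ∈ I0, ∀ w, ρ t w - w ∈ fixSp ρ t := by
    intro t ht w
    rw [mem_fixSp, map_sub, ← rep_mul_apply,
      show t * t = 1 from inv_eq_iff_mul_eq_one.1 (hsq t ht), map_one, Module.End.one_apply,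
      sub_eq_add_neg, sub_eq_add_neg, neg_eq_of_add_eq_zero_right (h2 w),
      neg_eq_of_add_eq_zero_right (h2 (ρ t w)), add_comm]
  -- the fixed spaces determine the involutions
  have hinj : ∀ s ∈ I0, ∀ t ∈ I0, fixSp ρ s = fixSp ρ t → s = t := by
    let P : Set (Submodule E W) := fixSp ρ '' I0
    by_cases hone : ∀ t ∈ I0, fixSp ρ t = fixSp ρ z₀
    · exfalso
      let A := fixSp ρ z₀
      have hinvA : ∀ g, ∀ x ∈ A, ρ g x ∈ A := by
        intro g x hx
        have := hone _ (hconjI g z₀ hz0I)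
        show ρ g x ∈ fixSp ρ z₀
        rw [← this, hconjfix, rep_inv_apply]
        exact hx
      have hfixA : ∀ g, ∀ x ∈ A, ρ g x = x := fun g =>
        law A z₀ g (hne1 _ hz0I) (fun y hy => hy) (hinvA g)
      let K : Subgroup T :=
        { carrier := {g | ∀ w, ρ g w - w ∈ A}
          one_mem' := fun w => by simp
          mul_mem' := fun {a b} ha hb w => by
            have := A.add_mem (ha (ρ b w)) (hb w)
            rwa [← rep_mul_apply, sub_add_sub_cancel] at this
          inv_mem' := fun {a} ha w => by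
            have := A.neg_mem (ha (ρ a⁻¹ w))
            rwa [rep_apply_inv, neg_sub] at this }
      have hKn : K.Normal := ⟨fun k hk g w => by
        have := hinvA g _ (hk (ρ g⁻¹ w))
        rwa [map_sub, rep_apply_inv, ← rep_mul_apply, ← rep_mul_apply] at this⟩
      have hzK : z₀ ∈ K := fun w => himg z₀ hz0I w
      have hKtop : K = ⊤ := hKn.eq_bot_or_eq_top.resolve_left fun h => hne1 _ hz0I (by
        rw [h, Subgroup.mem_bot] at hzK; exact hzK)
      refine hna fun a b => hρ (LinearMap.ext fun w => ?_)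
      have ha : a ∈ K := hKtop ▸ Subgroup.mem_top a
      have hb : b ∈ K := hKtop ▸ Subgroup.mem_top b
      rw [rep_mul_apply, rep_mul_apply]
      have e1 := hfixA a _ (hb w)
      have e2 := hfixA b _ (ha w)
      rw [map_sub] at e1 e2
      rw [sub_eq_iff_eq_add.1 e1, sub_eq_iff_eq_add.1 e2]
      abel
    push Not at hone
    obtain ⟨s₁, hs₁, hs₁ne⟩ := hone
    haveI : Finite (Submodule E W) := Finite.of_injective _ SetLike.coe_injective
    haveI : Nontrivial P := ⟨⟨_, s₁, hs₁, rfl⟩, ⟨_, z₀, hz0I, rfl⟩, fun h => hs₁ne (congrArg Subtype.val h)⟩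
    let f : I0 → P := fun t => ⟨fixSp ρ t.1, t.1, t.2, rfl⟩
    have fsurj : Function.Surjective f := by
      rintro ⟨_, t, ht, rfl⟩; exact ⟨⟨t, ht⟩, rfl⟩
    -- the action on fixed spaces
    let act : I0 → P → P := fun t a => ⟨fixSp ρ (t.1 * (a.2.choose) * t.1⁻¹),
      _, hconjI _ _ a.2.choose_spec.1, rfl⟩
    have hact : ∀ t a x, x ∈ (act t a).1 ↔ ρ t.1 x ∈ a.1 := by
      intro t a x
      show x ∈ fixSp ρ _ ↔ _
      rw [hconjfix, hsq _ t.2, a.2.choose_spec.2]
    have hmoved : ∀ t a, a ≠ f t → act t a ≠ a := by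
      intro t a hne h
      apply hne
      apply Subtype.ext
      have hfix : ∀ x ∈ a.1, ρ t.1 x = x := by
        refine law a.1 a.2.choose t.1 (hne1 _ a.2.choose_spec.1) (fun y hy => ?_) (fun y hy => ?_)
        · rw [← a.2.choose_spec.2] at hy; exact hy
        · rw [← hact, h]; exact hy
      rw [← a.2.choose_spec.2] at hfix ⊢
      exact hle _ t.2 _ a.2.choose_spec.1 hfix
    have hinjpair : Function.Injective (fun p : {p : I0 × P // p.2 ≠ f p.1} =>
        (⟨(p.1.2, act p.1.1 p.1.2), (hmoved _ _ p.2).symm⟩ : {q : P × P // q.1 ≠ q.2})) := by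
      rintro ⟨⟨t, a⟩, ha⟩ ⟨⟨t', a'⟩, ha'⟩ h
      simp only [Subtype.mk.injEq, Prod.mk.injEq] at h
      obtain ⟨rfl, hb⟩ := h
      by_contra hne
      have htt : t.1 ≠ t'.1 := fun h => hne (by
        have : t = t' := Subtype.ext h
        subst this; rfl)
      let u := t'.1 * t.1
      have hu : u ≠ 1 := fun h => htt (by
        have := eq_inv_of_mul_eq_one_right h
        rw [hsq _ t'.2] at this
        exact this)
      have hmaps : ∀ x, ρ t.1 x ∈ a.1 ↔ ρ t'.1 x ∈ a.1 := fun x => by
        rw [← hact, hb, hact]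
      have htt1 : ∀ (s : I0) x, ρ s.1 (ρ s.1 x) = x := fun s x => by
        conv_lhs => rw [← rep_mul_apply]
        have := pow_orderOf_eq_one s.1
        rw [s.2.1, sq] at this
        rw [this, map_one, Module.End.one_apply]
      have huinv : ∀ x ∈ a.1, ρ u x ∈ a.1 := by
        intro x hx
        show ρ (t'.1 * t.1) x ∈ a.1
        rw [rep_mul_apply, ← hmaps, htt1]
        exact hx
      have hua : ∀ x ∈ a.1, ρ u x = x := law a.1 a.2.choose u (hne1 _ a.2.choose_spec.1)
        (fun y hy => by rw [← a.2.choose_spec.2] at hy; exact hy) huinv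
      have htu : t.1 * u = u⁻¹ * t.1 := by
        show t.1 * (t'.1 * t.1) = (t'.1 * t.1)⁻¹ * t.1
        rw [mul_inv_rev, hsq _ t.2, hsq _ t'.2, mul_assoc]
      have hta : ∀ x ∈ a.1, ρ t.1 x = x := fun x hx => hnorm u t.1 hu (Or.inr htu) x (hua x hx)
      refine ha (Subtype.ext ?_)
      rw [← a.2.choose_spec.2] at hta ⊢
      exact hle _ t.2 _ a.2.choose_spec.1 hta
    have hcard := Nat.card_le_card_of_injective _ hinjpair
    haveI := Fintype.ofFinite I0
    haveI := Fintype.ofFinite P
    have hL : Nat.card {p : I0 × P // p.2 ≠ f p.1} = Nat.card I0 * (Nat.card P - 1) := by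
      rw [Nat.card_congr (Equiv.subtypeProdEquivSigmaSubtype fun (t : I0) (a : P) => a ≠ f t),
        Nat.card_sigma]
      simp [Fintype.card_subtype_compl, Nat.card_eq_fintype_card]
    have hR : Nat.card {q : P × P // q.1 ≠ q.2} = Nat.card P * (Nat.card P - 1) := by
      rw [Nat.card_congr (Equiv.subtypeProdEquivSigmaSubtype fun (a b : P) => a ≠ b),
        Nat.card_sigma]
      simp [Fintype.card_subtype_compl, Nat.card_eq_fintype_card]
    rw [hL, hR] at hcard
    have h1 : 1 < Nat.card P := Finite.one_lt_card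
    have h2' : Nat.card I0 ≤ Nat.card P := Nat.le_of_mul_le_mul_right hcard (by omega)
    have hb : Function.Bijective f := fsurj.bijective_of_nat_card_le h2'
    intro s hs t ht hst
    exact congrArg Subtype.val (hb.1 (show f ⟨s, hs⟩ = f ⟨t, ht⟩ from Subtype.ext hst))
  -- so `z₀` is isolated
  have hiso : Cfsg.Agent.Lib.ZStar.Reduction.Iso z₀ := by
    refine ⟨hz₀, fun g => ?_⟩
    rw [Cfsg.Agent.Lib.ZStar.Reduction.comm_eq hz₀]
    have hz'I := hconjI g z₀ hz0I
    generalize g * z₀ * g⁻¹ = z' at hz'I ⊢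
    by_cases he : z' = z₀
    · have := pow_orderOf_eq_one z₀
      rw [hz₀, sq] at this
      rw [he, this, orderOf_one]
      exact odd_one
    by_contra hodd
    rw [Nat.not_odd_iff_even, even_iff_two_dvd] at hodd
    obtain ⟨k, hk⟩ := hodd
    let u := z₀ * z'
    let w := u ^ k
    have hpos : 0 < orderOf u := orderOf_pos u
    have hw : w ≠ 1 := by
      intro h
      have := orderOf_dvd_of_pow_eq_one h
      change orderOf u = 2 * k at hk
      rcases Nat.eq_zero_or_pos k with h0 | h0
      · omega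
      · have := Nat.le_of_dvd h0 this; omega
    have hwinv : w⁻¹ = w := by
      apply inv_eq_of_mul_eq_one_right
      rw [← pow_add, ← two_mul]
      change orderOf u = 2 * k at hk
      rw [← hk, pow_orderOf_eq_one]
    have hcomm : ∀ s, s * u * s⁻¹ = u⁻¹ → s * w = w * s := by
      intro s hs
      have : s * w * s⁻¹ = w⁻¹ := by
        show s * u ^ k * s⁻¹ = (u ^ k)⁻¹
        rw [← conj_pow, hs, inv_pow]
      rw [hwinv] at this
      conv_rhs => rw [← this]
      rw [inv_mul_cancel_right]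
    have hc0 : z₀ * w = w * z₀ := hcomm z₀ (by
      show z₀ * (z₀ * z') * z₀⁻¹ = (z₀ * z')⁻¹
      rw [mul_inv_rev, hsq _ hz'I, hsq _ hz0I, ← mul_assoc z₀ z₀ z']
      have := hsq _ hz0I
      rw [inv_eq_iff_mul_eq_one] at this
      rw [this, one_mul])
    have hc1 : z' * w = w * z' := hcomm z' (by
      show z' * (z₀ * z') * z'⁻¹ = (z₀ * z')⁻¹
      rw [mul_inv_rev, hsq _ hz'I, hsq _ hz0I, mul_assoc, mul_assoc z₀]
      have := hsq _ hz'I
      rw [inv_eq_iff_mul_eq_one] at this
      rw [this, mul_one])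
    have hwA : ∀ x, ρ z' x = x → ρ w x = x := hnorm z' w (hne1 _ hz'I) (Or.inl hc1.symm)
    have hsub : fixSp ρ z' ≤ fixSp ρ z₀ := fun x hx =>
      hnorm w z₀ hw (Or.inl hc0) x (hwA x hx)
    exact he (hinj _ hz'I _ hz0I (hle _ hz0I _ hz'I hsub))
  have hcent := Cfsg.Agent.Lib.ZStar.UniqueCase.mem_center_of_iso hiso (fun N hN hodd =>
    hN.eq_bot_or_eq_top.resolve_right fun h => by
      rw [h, Subgroup.card_top, ← Nat.not_even_iff_odd] at hodd
      exact hodd (even_card hna))
  rcases (inferInstance : (Subgroup.center T).Normal).eq_bot_or_eq_top with h | h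
  · rw [h, Subgroup.mem_bot] at hcent; exact hne1 _ hz0I hcent
  · exact hna fun a b => (Subgroup.mem_center_iff.1 (h ▸ Subgroup.mem_top b) a)

end Cfsg.Agent.Lib.ExtremePrim64
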