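import Cfsg.Agent.Lib.ExtremePrim64.Tensor

/-!
Irreducible non-solvable linear groups all whose vector stabilisers are maximal.
-/

set_option autoImplicit false
set_option linter.unusedSectionVars false

namespace Cfsg.Agent.Lib.ExtremePrim64

variable {p : ℕ} [Fact p.Prime] {V H : Type*} [AddCommGroup V] [Module (ZMod p) V] [Finite V]
  [Group H] [Finite H]

/-- Irreducible faithful linear group whose vector stabilisers are maximal. -/
structure Ext (ρ : Representation (ZMod p) H V) : Prop where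
  inj : Function.Injective ρ
  irr : ∀ U : Submodule (ZMod p) V, (∀ h, ∀ u ∈ U, ρ h u ∈ U) → U = ⊥ ∨ U = ⊤
  ns : ¬ Group.IsSolvable H
  max : ∀ v : V, v ≠ 0 → ∃ M : Subgroup H, IsCoatom M ∧ ∀ h, h ∈ M ↔ ρ h v = v

/-- Minimal normal subgroup. -/
structure MinNormal (N : Subgroup H) : Prop where
  normal : N.Normal
  ne_bot : N ≠ ⊥
  min : ∀ K : Subgroup H, K.Normal → K ≤ N → K = ⊥ ∨ K = N

theorem exists_minimal_below (P : Subgroup H → Prop) (A : Subgroup H) (hA : A ≠ ⊥) (hPA : P A) :
    ∃ N : Subgroup H, N ≤ A ∧ N ≠ ⊥ ∧ P N ∧ ∀ K, P K → K ≤ N → K = ⊥ ∨ K = N := by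
  classical
  haveI : Finite (Subgroup H) := Finite.of_injective _ SetLike.coe_injective
  haveI : Nonempty {K : Subgroup H // K ≤ A ∧ K ≠ ⊥ ∧ P K} := ⟨⟨A, le_rfl, hA, hPA⟩⟩
  obtain ⟨⟨N, hNA, hN, hPN⟩, hmin⟩ := Finite.exists_min
    (fun K : {K : Subgroup H // K ≤ A ∧ K ≠ ⊥ ∧ P K} => Nat.card K.1)
  exact ⟨N, hNA, hN, hPN, fun K hK hKN => or_iff_not_imp_left.2 fun h =>
    Subgroup.eq_of_le_of_card_ge hKN (hmin ⟨K, hKN.trans hNA, h, hK⟩)⟩

theorem exists_minNormal (A : Subgroup H) (hn : A.Normal) (hA : A ≠ ⊥) :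
    ∃ N, N ≤ A ∧ MinNormal N := by
  obtain ⟨N, h1, h2, h3, h4⟩ := exists_minimal_below (fun K => K.Normal) A hA hn
  exact ⟨N, h1, h3, h2, h4⟩

theorem normal_of_normalizes {K : Subgroup H} {M : Subgroup H} (hM : IsCoatom M) {A : Subgroup H}
    (hA : ¬ A ≤ M) (h1 : M ≤ Subgroup.normalizer (K : Set H))
    (h2 : A ≤ Subgroup.normalizer (K : Set H)) : K.Normal := by
  refine Subgroup.normalizer_eq_top_iff.1 ?_
  rcases hM.le_iff.1 h1 with h | h
  · exact h
  · exact absurd (h ▸ h2) hA

theorem rep_sub_one {k W S : Type*} [Field k] [AddCommGroup W] [Module k W] [Group S]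
    (σ : Representation k S W) {t : S} (ht : orderOf t = 2) (h2 : ∀ w : W, w + w = 0)
    (hne : σ t ≠ 1) : ∃ v : W, v ≠ 0 ∧ σ t v = v := by
  obtain ⟨w, hw⟩ : ∃ w, σ t w ≠ w := by
    by_contra! h
    exact hne (LinearMap.ext h)
  refine ⟨σ t w + w, fun h => hw ?_, ?_⟩
  · rw [eq_neg_of_add_eq_zero_left h, neg_eq_of_add_eq_zero_right (h2 w)]
  · have := pow_orderOf_eq_one t
    rw [ht, sq] at this
    rw [map_add, ← Module.End.mul_apply, ← map_mul, this, map_one, Module.End.one_apply, add_comm]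

variable {ρ : Representation (ZMod p) H V} (X : Ext ρ)
include X

theorem nofix {K : Subgroup H} (hK : K.Normal) (hK1 : K ≠ ⊥) {x : V}
    (hx : ∀ c ∈ K, ρ c x = x) : x = 0 := by
  let U : Submodule (ZMod p) V :=
    { carrier := {w | ∀ c ∈ K, ρ c w = w}
      add_mem' := fun {a b} ha hb c hc => by rw [map_add, ha c hc, hb c hc]
      zero_mem' := fun c _ => map_zero _
      smul_mem' := fun r a ha c hc => by rw [map_smul, ha c hc] }
  rcases X.irr U (fun h u hu c hc => by
    have := hu (h⁻¹ * c * h) (by simpa using hK.conj_mem c hc h⁻¹)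
    rw [rep_mul_apply, rep_mul_apply] at this
    conv_rhs => rw [← this, rep_apply_inv]) with h | h
  · exact (Submodule.eq_bot_iff U).1 h x hx
  · refine absurd ((Subgroup.eq_bot_iff_forall K).2 fun c hc => X.inj (LinearMap.ext fun w => ?_)) hK1
    have : w ∈ U := h ▸ trivial
    rw [map_one, Module.End.one_apply]
    exact this c hc

theorem not_le_stab {K : Subgroup H} (hK : K.Normal) (hK1 : K ≠ ⊥) {v : V} (hv : v ≠ 0)
    {M : Subgroup H} (hM : ∀ h, h ∈ M ↔ ρ h v = v) : ¬ K ≤ M :=
  fun h => hv (nofix X hK hK1 fun c hc => (hM c).1 (h hc))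

theorem nontrivialV : Nontrivial V := by
  by_contra h
  rw [not_nontrivial_iff_subsingleton] at h
  exact X.ns (Group.isSolvable_of_comm fun a b => X.inj (LinearMap.ext fun w => Subsingleton.elim _ _))

theorem p_eq_two : p = 2 := by
  by_contra hp
  haveI : Fact (Nat.Prime 2) := ⟨Nat.prime_two⟩
  have heven : Even (Nat.card H) := by
    by_contra h
    exact X.ns (Cfsg.Agent.S0205.result (Nat.not_even_iff_odd.1 h))
  obtain ⟨t, ht⟩ := exists_prime_orderOf_dvd_card' 2 (even_iff_two_dvd.1 heven)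
  have ht2 : t * t = 1 := by rw [← sq, ← ht, pow_orderOf_eq_one]
  obtain ⟨w, hw⟩ : ∃ w, ρ t w ≠ w := by
    by_contra! h
    have : t = 1 := X.inj (by rw [map_one]; exact LinearMap.ext h)
    rw [this, orderOf_one] at ht
    omega
  let u := ρ t w - w
  have hu : u ≠ 0 := sub_ne_zero.2 hw
  have htu : ρ t u = -u := by
    simp only [u]
    rw [map_sub, ← rep_mul_apply, ht2, map_one, Module.End.one_apply, neg_sub]
  have hneg : -u ≠ u := by
    intro h
    have h2 : (2 : ZMod p) • u = 0 := by rw [two_smul]; nth_rewrite 1 [← h]; exact neg_add_cancel u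
    rcases smul_eq_zero.1 h2 with h | h
    · have : ((2 : ℕ) : ZMod p) = 0 := by exact_mod_cast h
      rw [ZMod.natCast_eq_zero_iff] at this
      exact hp ((Nat.prime_dvd_prime_iff_eq Fact.out Nat.prime_two).1 this)
    · exact hu h
  obtain ⟨M, hM, hMu⟩ := X.max u hu
  let L : Subgroup H :=
    { carrier := {g | ρ g u = u ∨ ρ g u = -u}
      one_mem' := Or.inl (by rw [map_one]; rfl)
      mul_mem' := fun {a b} ha hb => by
        show ρ (a * b) u = u ∨ ρ (a * b) u = -u
        rw [rep_mul_apply]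
        rcases hb with hb | hb <;> rcases ha with ha | ha <;> simp [ha, hb, map_neg]
      inv_mem' := fun {a} ha => by
        show ρ a⁻¹ u = u ∨ ρ a⁻¹ u = -u
        rcases ha with ha | ha
        · exact Or.inl (by conv_lhs => rw [← ha, rep_inv_apply])
        · refine Or.inr ?_
          have := rep_inv_apply ρ a u
          rw [ha, map_neg] at this
          exact (neg_eq_iff_eq_neg.1 this) }
  have hL : L = ⊤ := by
    refine hM.2 L (lt_of_le_of_ne (fun g hg => Or.inl ((hMu g).1 hg)) fun h => ?_)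
    have : t ∈ M := h ▸ (Or.inr htu : t ∈ L)
    rw [hMu, htu] at this
    exact hneg this
  rcases X.irr (Submodule.span (ZMod p) {u}) (fun g x hx => by
    obtain ⟨c, rfl⟩ := Submodule.mem_span_singleton.1 hx
    rw [map_smul]
    refine Submodule.smul_mem _ _ ?_
    rcases (hL ▸ Subgroup.mem_top g : g ∈ L) with h | h <;> rw [h]
    · exact Submodule.mem_span_singleton_self u
    · exact Submodule.neg_mem _ (Submodule.mem_span_singleton_self u)) with h | h
  · exact hu ((Submodule.span_singleton_eq_bot).1 h)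
  · have hsc : ∀ g, ∃ c : ZMod p, ρ g u = c • u := fun g => by
      rcases (hL ▸ Subgroup.mem_top g : g ∈ L) with h | h
      · exact ⟨1, by rw [h, one_smul]⟩
      · exact ⟨-1, by rw [h, neg_one_smul]⟩
    refine X.ns (Group.isSolvable_of_comm fun a b => X.inj (LinearMap.ext fun x => ?_))
    obtain ⟨c, rfl⟩ := Submodule.mem_span_singleton.1 (h ▸ Submodule.mem_top : x ∈ _)
    obtain ⟨ca, hca⟩ := hsc a
    obtain ⟨cb, hcb⟩ := hsc b
    simp only [rep_mul_apply, map_smul, hca, hcb, smul_smul]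
    rw [mul_comm ca cb]
    
theorem two_zero (v : V) : v + v = 0 := by
  have hp := p_eq_two X
  subst hp
  rw [← two_smul (ZMod 2) v]
  exact smul_eq_zero.2 (Or.inl rfl)

theorem even_of_minNormal {N : Subgroup H} (hN : MinNormal N)
    (hna : ¬ ∀ a ∈ N, ∀ b ∈ N, a * b = b * a) : Even (Nat.card N) := by
  by_contra h
  have hs : Group.IsSolvable N := Cfsg.Agent.S0205.result (Nat.not_even_iff_odd.1 h)
  haveI := hs
  haveI : Nontrivial N := (Subgroup.nontrivial_iff_ne_bot N).2 hN.ne_bot
  have hlt : commutator N < ⊤ := Group.IsSolvable.commutator_lt_top_of_nontrivial N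
  haveI := hN.normal
  have hn : ((commutator N).map N.subtype).Normal := inferInstance
  rcases hN.min _ hn (Subgroup.map_subtype_le _) with h' | h'
  · rw [Subgroup.map_eq_bot_iff_of_injective _ N.subtype_injective] at h'
    refine hna fun a ha b hb => ?_
    have := Subgroup.commutator_mem_commutator (Subgroup.mem_top (⟨a, ha⟩ : N))
      (Subgroup.mem_top (⟨b, hb⟩ : N))
    rw [← commutator_def, h', Subgroup.mem_bot, commutatorElement_eq_one_iff_mul_comm] at this
    exact congrArg Subtype.val this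
  · refine hlt.ne (Subgroup.map_injective N.subtype_injective (h'.trans ?_))
    rw [← MonoidHom.range_eq_map, Subgroup.range_subtype]

/-- Elements of a minimal normal subgroup normalising stabiliser intersections fix no vector. -/
theorem fpf {N N₂ : Subgroup H} (hN : MinNormal N) (hN₂ : MinNormal N₂)
    (hc : ∀ a ∈ N₂, ∀ b ∈ N, a * b = b * a) {c : H} (hcN : c ∈ N) (hc1 : c ≠ 1) {v : V}
    (hv : ρ c v = v) : v = 0 := by
  by_contra hne
  obtain ⟨M, hM, hMv⟩ := X.max v hne
  have hnorm : (N ⊓ M).Normal := by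
    refine normal_of_normalizes hM (not_le_stab X hN₂.normal hN₂.ne_bot hne hMv) (fun m hm => ?_)
      (fun a ha => ?_)
    · rw [Subgroup.mem_normalizer_iff]
      intro x
      have h1 : x ∈ M ↔ m * x * m⁻¹ ∈ M :=
        ⟨fun h => M.mul_mem (M.mul_mem hm h) (M.inv_mem hm), fun h => by
          have := M.mul_mem (M.mul_mem (M.inv_mem hm) h) hm
          simpa [mul_assoc] using this⟩
      have h2 : x ∈ N ↔ m * x * m⁻¹ ∈ N := ⟨fun h => hN.normal.conj_mem x h m, fun h => by
        have := hN.normal.conj_mem _ h m⁻¹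
        simpa [mul_assoc] using this⟩
      rw [Subgroup.mem_inf, Subgroup.mem_inf, ← h1, ← h2]
    · refine Subgroup.centralizer_le_normalizer _ ?_
      rw [Subgroup.mem_centralizer_iff]
      exact fun b hb => (hc a ha b hb.1).symm
  rcases hN.min _ hnorm inf_le_left with h | h
  · exact hc1 ((Subgroup.mem_bot).1 (h ▸ (⟨hcN, (hMv c).2 hv⟩ : c ∈ N ⊓ M)))
  · exact not_le_stab X hN.normal hN.ne_bot hne hMv (h ▸ inf_le_right)

theorem nonabelian {N : Subgroup H} (hN : MinNormal N) :
    ¬ ∀ a ∈ N, ∀ b ∈ N, a * b = b * a := by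
  intro hab
  have h2 := two_zero X
  have hf : ∀ c ∈ N, c ≠ 1 → ∀ v, ρ c v = v → v = 0 := fun c hc hc1 v hv =>
    fpf X hN hN hab hc hc1 hv
  haveI : Nontrivial N := (Subgroup.nontrivial_iff_ne_bot N).2 hN.ne_bot
  obtain ⟨r, hr, hrd⟩ := Nat.exists_prime_and_dvd (Finite.one_lt_card (α := N)).ne'
  haveI : Fact r.Prime := ⟨hr⟩
  obtain ⟨⟨a, haN⟩, ha⟩ := exists_prime_orderOf_dvd_card' r hrd
  rw [Subgroup.orderOf_mk] at ha
  have ha1 : a ≠ 1 := fun h => hr.one_lt.ne' (by rw [← ha, h, orderOf_one])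
  -- exponent `r`
  let K : Subgroup H :=
    { carrier := {x | x ∈ N ∧ x ^ r = 1}
      one_mem' := ⟨N.one_mem, one_pow r⟩
      mul_mem' := fun {x y} hx hy => ⟨N.mul_mem hx.1 hy.1, by
        rw [(show Commute x y from hab x hx.1 y hy.1).mul_pow, hx.2, hy.2, one_mul]⟩
      inv_mem' := fun {x} hx => ⟨N.inv_mem hx.1, by rw [inv_pow, hx.2, inv_one]⟩ }
  have hK : K = N := (hN.min K ⟨fun x hx g => ⟨hN.normal.conj_mem x hx.1 g, by
      rw [conj_pow, hx.2, mul_one, mul_inv_cancel]⟩⟩ (fun x hx => hx.1)).resolve_left fun h =>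
    ha1 (Subgroup.mem_bot.1 (h ▸ (⟨haN, ha ▸ pow_orderOf_eq_one a⟩ : a ∈ K)))
  by_cases hcyc : N ≤ Subgroup.zpowers a
  · -- cyclic
    obtain ⟨v, hv⟩ : ∃ v : V, v ≠ 0 := @exists_ne V (nontrivialV X) 0
    obtain ⟨M, hM, hMv⟩ := X.max v hv
    haveI := hN.normal
    have hsup : N ⊔ M = ⊤ := hM.2 _ (lt_of_le_of_ne le_sup_right fun h =>
      not_le_stab X hN.normal hN.ne_bot hv hMv (h ▸ le_sup_left))
    have hMcomm : ∀ x ∈ M, ∀ y ∈ M, x * y = y * x := by
      intro x hx y hy
      obtain ⟨i, hi⟩ := Subgroup.mem_zpowers_iff.1 (hcyc (hN.normal.conj_mem a haN x))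
      obtain ⟨j, hj⟩ := Subgroup.mem_zpowers_iff.1 (hcyc (hN.normal.conj_mem a haN y))
      have hc : ∀ z ∈ M, (z * a * z⁻¹ = a) → z = 1 := by
        intro z hz hza
        have hcom : ∀ n ∈ N, z * n = n * z := by
          intro n hn
          obtain ⟨l, rfl⟩ := Subgroup.mem_zpowers_iff.1 (hcyc hn)
          exact ((show Commute z a from mul_inv_eq_iff_eq_mul.1 hza).zpow_right l).eq
        let U : Submodule (ZMod p) V := Submodule.span (ZMod p) (Set.range fun g => ρ g v)
        have hU : U = ⊤ := (X.irr U (fun g u hu => by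
            induction hu using Submodule.span_induction with
            | mem u hu =>
              obtain ⟨g', rfl⟩ := hu
              exact Submodule.subset_span ⟨g * g', rep_mul_apply ρ g g' v⟩
            | zero => rw [map_zero]; exact U.zero_mem
            | add u u' _ _ h1 h2 => rw [map_add]; exact U.add_mem h1 h2
            | smul c u _ h1 => rw [map_smul]; exact U.smul_mem c h1)).resolve_left fun h =>
          hv ((Submodule.eq_bot_iff U).1 h v (Submodule.subset_span ⟨1, by simp⟩))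
        refine X.inj (LinearMap.ext_on (s := Set.range fun g => ρ g v) hU ?_)
        rintro _ ⟨g, rfl⟩
        have hg : g ∈ N ⊔ M := hsup ▸ Subgroup.mem_top g
        obtain ⟨n, hn, m, hm, rfl⟩ := Subgroup.mem_sup_of_normal_left.1 hg
        show ρ z (ρ (n * m) v) = ρ 1 (ρ (n * m) v)
        rw [map_one, Module.End.one_apply, rep_mul_apply, (hMv m).1 hm, ← rep_mul_apply,
          hcom n hn, rep_mul_apply, (hMv z).1 hz]
      have e : (x * y) * a * (x * y)⁻¹ = (y * x) * a * (y * x)⁻¹ := by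
        rw [show (x * y) * a * (x * y)⁻¹ = x * (y * a * y⁻¹) * x⁻¹ by group,
          show (y * x) * a * (y * x)⁻¹ = y * (x * a * x⁻¹) * y⁻¹ by group, ← hi, ← hj, ← conj_zpow,
          ← conj_zpow, ← hi, ← hj, ← zpow_mul, ← zpow_mul, mul_comm]
      have key := hc ((y * x)⁻¹ * (x * y))
        (M.mul_mem (M.inv_mem (M.mul_mem hy hx)) (M.mul_mem hx hy)) (by
          calc (y * x)⁻¹ * (x * y) * a * ((y * x)⁻¹ * (x * y))⁻¹
              = (y * x)⁻¹ * ((x * y) * a * (x * y)⁻¹) * (y * x) := by group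
            _ = a := by rw [e]; group)
      exact (inv_mul_eq_one.1 key).symm
    refine X.ns ?_
    haveI : Group.IsSolvable N := Group.isSolvable_of_comm fun x y =>
      Subtype.ext (hab x x.2 y y.2)
    haveI : Group.IsSolvable (H ⧸ N) := Group.isSolvable_of_comm fun x y => by
      obtain ⟨x, rfl⟩ := QuotientGroup.mk_surjective x
      obtain ⟨y, rfl⟩ := QuotientGroup.mk_surjective y
      obtain ⟨n, hn, m, hm, rfl⟩ := Subgroup.mem_sup_of_normal_left.1
        (hsup ▸ Subgroup.mem_top x : x ∈ N ⊔ M)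
      obtain ⟨n', hn', m', hm', rfl⟩ := Subgroup.mem_sup_of_normal_left.1
        (hsup ▸ Subgroup.mem_top y : y ∈ N ⊔ M)
      simp only [QuotientGroup.mk_mul, (QuotientGroup.eq_one_iff n).2 hn,
        (QuotientGroup.eq_one_iff n').2 hn', one_mul]
      rw [← QuotientGroup.mk_mul, ← QuotientGroup.mk_mul, hMcomm m hm m' hm']
    exact Group.isSolvable_of_ker_le_range N.subtype (QuotientGroup.mk' N) (by simp)
  · -- non-cyclic
    obtain ⟨b, hbN, hb⟩ := SetLike.not_le_iff_exists.1 hcyc
    have hexp : ∀ x ∈ N, x ^ r = 1 := fun x hx => (hK ▸ hx : x ∈ K).2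
    have hrodd : Odd r := by
      refine hr.odd_of_ne_two fun h2r => ?_
      obtain ⟨v, hv, hfix⟩ := rep_sub_one ρ (t := a) (ha.trans h2r) h2 fun h =>
        ha1 (X.inj (h.trans (map_one ρ).symm))
      exact hv (hf a haN ha1 v hfix)
    obtain ⟨v, hv⟩ : ∃ v : V, v ≠ 0 := @exists_ne V (nontrivialV X) 0
    have hline : ∀ c ∈ N, c ≠ 1 → ∑ j ∈ Finset.range r, ρ (c ^ j) v = 0 := by
      intro c hc hc1
      refine hf c hc hc1 _ ?_
      rw [map_sum]
      simp only [← rep_mul_apply, ← pow_succ']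
      have h1 := Finset.sum_range_succ (fun j => ρ (c ^ j) v) r
      rw [Finset.sum_range_succ', hexp c hc, pow_zero] at h1
      exact add_right_cancel h1
    have hzero : ∑ i ∈ Finset.range r, ∑ j ∈ Finset.range r, ρ ((b * a ^ i) ^ j) v = 0 :=
      Finset.sum_eq_zero fun i _ => hline _ (N.mul_mem hbN (N.pow_mem haN i)) fun h => hb (by
        rw [eq_inv_of_mul_eq_one_left h]
        exact Subgroup.inv_mem _ (Subgroup.npow_mem_zpowers a i))
    rw [Finset.sum_comm, Finset.sum_eq_single 0] at hzero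
    · simp only [pow_zero, map_one, Module.End.one_apply, Finset.sum_const, Finset.card_range] at hzero
      obtain ⟨k, hk⟩ := hrodd
      rw [hk, add_nsmul, one_nsmul, mul_comm, mul_nsmul, two_nsmul] at hzero
      rw [h2, zero_add] at hzero
      exact hv hzero
    · intro j hj hj0
      have hcom : Commute b a := hab b hbN a haN
      have : ∀ i, ρ ((b * a ^ i) ^ j) v = ρ (b ^ j) (ρ ((a ^ j) ^ i) v) := fun i => by
        rw [(hcom.pow_right i).mul_pow, rep_mul_apply, ← pow_mul, ← pow_mul, mul_comm]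
      simp only [this, ← map_sum]
      rw [hline _ (N.pow_mem haN j) (fun h => hj0 ?_), map_zero]
      have := orderOf_dvd_of_pow_eq_one h
      rw [ha] at this
      exact Nat.eq_zero_of_dvd_of_lt this (Finset.mem_range.1 hj)
    · intro h
      exact absurd (Finset.mem_range.2 hr.pos) h

theorem centralizer_eq_bot {N : Subgroup H} (hN : MinNormal N) :
    Subgroup.centralizer (N : Set H) = ⊥ := by
  by_contra h
  haveI := hN.normal
  obtain ⟨N₂, hle, hN₂⟩ := exists_minNormal _ inferInstance h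
  haveI : Fact (Nat.Prime 2) := ⟨Nat.prime_two⟩
  obtain ⟨⟨t, htN⟩, ht⟩ := exists_prime_orderOf_dvd_card' 2
    (even_iff_two_dvd.1 (even_of_minNormal X hN (nonabelian X hN)))
  rw [Subgroup.orderOf_mk] at ht
  have ht1 : t ≠ 1 := fun h => by rw [h, orderOf_one] at ht; omega
  obtain ⟨v, hv, hfix⟩ := rep_sub_one ρ ht (two_zero X) fun h =>
    ht1 (X.inj (h.trans (map_one ρ).symm))
  exact hv (fpf X hN hN₂ (fun a ha b hb => ((Subgroup.mem_centralizer_iff.1 (hle ha)) b hb).symm)
    htN ht1 hfix)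

theorem exists_simple_normal : ∃ T : Subgroup H, T.Normal ∧ IsSimpleGroup T ∧ ¬ IsMulCommutative T ∧
    Subgroup.centralizer (T : Set H) = ⊥ := by
  classical
  haveI : Nontrivial H := by
    by_contra h
    rw [not_nontrivial_iff_subsingleton] at h
    exact X.ns (Group.isSolvable_of_comm fun a b => Subsingleton.elim _ _)
  obtain ⟨N, _, hN⟩ := exists_minNormal (⊤ : Subgroup H) inferInstance top_ne_bot
  obtain ⟨T, hTN, hT1, hTn, hTmin⟩ := exists_minimal_below
    (fun K => N ≤ Subgroup.normalizer (K : Set H)) N hN.ne_bot (Subgroup.le_normalizer)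
  let cT : H → Subgroup H := fun h => T.map (MulAut.conj h).toMonoidHom
  have hmem : ∀ h x, x ∈ cT h ↔ h⁻¹ * x * h ∈ T := by
    intro h x
    constructor
    · rintro ⟨y, hy, rfl⟩
      simpa [mul_assoc] using hy
    · intro hx
      exact ⟨_, hx, by simp [mul_assoc]⟩
  have hone : cT 1 = T := Subgroup.ext fun x => by rw [hmem]; simp
  have hmul : ∀ g h x, x ∈ cT (g * h) ↔ g⁻¹ * x * g ∈ cT h := fun g h x => by
    rw [hmem, hmem]; group
  have hleN : ∀ h, cT h ≤ N := fun h x hx => by
    have := hN.normal.conj_mem _ (hTN ((hmem h x).1 hx)) h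
    simpa [mul_assoc] using this
  have hnmem : ∀ n ∈ N, ∀ h x, x ∈ cT h → n * x * n⁻¹ ∈ cT h := by
    intro n hn h x hx
    rw [hmem] at hx ⊢
    have hn' : h⁻¹ * n * h ∈ N := by simpa using hN.normal.conj_mem n hn h⁻¹
    have := (Subgroup.mem_normalizer_iff.1 (hTn hn') _).1 hx
    simpa [mul_assoc] using this
  have hcn : ∀ h, N ≤ Subgroup.normalizer (cT h : Set H) := fun h n hn => by
    rw [Subgroup.mem_normalizer_iff]
    refine fun x => ⟨hnmem n hn h x, fun hx => ?_⟩
    simpa [mul_assoc] using hnmem n⁻¹ (N.inv_mem hn) h _ hx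
  have hpair : ∀ g h, cT g = cT h ∨ ∀ a ∈ cT g, ∀ b ∈ cT h, a * b = b * a := by
    intro g h
    by_cases hd : cT g ⊓ cT h = ⊥
    · right
      intro a ha b hb
      rw [← commutatorElement_eq_one_iff_mul_comm, ← Subgroup.mem_bot, ← hd]
      refine ⟨?_, ?_⟩
      · show a * b * a⁻¹ * b⁻¹ ∈ cT g
        have := hnmem b (hleN h hb) g _ ((cT g).inv_mem ha)
        simpa [mul_assoc] using (cT g).mul_mem ha this
      · exact (cT h).mul_mem (hnmem a (hleN g ha) h b hb) ((cT h).inv_mem hb)
    · left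
      -- the intersection pulls back to an `N`-invariant subgroup of `T`
      have key : ∀ g h, cT g ⊓ cT h ≠ ⊥ → cT g ≤ cT h := by
        intro g h hne
        let K := T ⊓ cT (g⁻¹ * h)
        have hK : N ≤ Subgroup.normalizer (K : Set H) := fun n hn => by
          rw [Subgroup.mem_normalizer_iff]
          intro x
          show x ∈ T ⊓ cT (g⁻¹ * h) ↔ n * x * n⁻¹ ∈ T ⊓ cT (g⁻¹ * h)
          rw [Subgroup.mem_inf, Subgroup.mem_inf]
          exact and_congr (Subgroup.mem_normalizer_iff.1 (hTn hn) x)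
            (Subgroup.mem_normalizer_iff.1 (hcn _ hn) x)
        rcases hTmin K hK inf_le_left with h' | h'
        · refine absurd ((Subgroup.eq_bot_iff_forall _).2 fun x hx => ?_) hne
          have h3 : g⁻¹ * x * g ∈ cT (g⁻¹ * h) := by
            rw [hmul, inv_inv]
            simpa [mul_assoc] using hx.2
          have : g⁻¹ * x * g = 1 := (Subgroup.eq_bot_iff_forall K).1 h' _ ⟨(hmem g x).1 hx.1, h3⟩
          have h4 := congrArg (fun z => g * z * g⁻¹) this
          simpa [mul_assoc] using h4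
        · intro x hx
          have hx' : g⁻¹ * x * g ∈ K := h'.symm ▸ ((hmem g x).1 hx)
          have := (Subgroup.mem_inf.1 hx').2
          rw [hmul, inv_inv] at this
          simpa [mul_assoc] using this
      exact le_antisymm (key g h hd) (key h g (by rwa [inf_comm]))
  -- the conjugates generate `N`
  have hgenle : ∀ (A : Subgroup H), (∀ h, cT h ≤ A) → N ≤ A := by
    intro A hA
    let U : Subgroup H := ⨆ h, cT h
    have hUn : U.Normal := ⟨fun x hx g => by
      induction hx using Subgroup.iSup_induction' with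
      | hp h x hx => exact Subgroup.mem_iSup_of_mem (g * h) (by
          rw [hmul]; simpa [mul_assoc] using hx)
      | h1 => simp
      | hmul x y _ _ h1 h2 => simpa [mul_assoc] using U.mul_mem h1 h2⟩
    rcases hN.min U hUn (iSup_le hleN) with h | h
    · exact absurd (hone.symm.trans ((iSup_eq_bot.1 h) 1)) hT1
    · exact h ▸ iSup_le hA
  have hTna : ∀ h, ¬ ∀ a ∈ cT h, ∀ b ∈ cT h, a * b = b * a := by
    intro h hab
    have habT : ∀ g, ∀ a ∈ cT g, ∀ b ∈ cT g, a * b = b * a := by
      intro g a ha b hb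
      have e : ∀ x ∈ cT g, h * (g⁻¹ * x * g) * h⁻¹ ∈ cT h := fun x hx => by
        rw [hmem]; simpa [mul_assoc] using (hmem g x).1 hx
      have := congrArg (fun z => g * (h⁻¹ * z * h) * g⁻¹) (hab _ (e a ha) _ (e b hb))
      simpa [mul_assoc] using this
    have hall : ∀ g, ∀ a ∈ cT g, ∀ b ∈ N, a * b = b * a := by
      intro g a ha
      have : N ≤ Subgroup.centralizer {a} := hgenle _ fun h b hb => by
        rw [Subgroup.mem_centralizer_iff]
        intro c hca
        rw [Set.mem_singleton_iff] at hca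
        subst hca
        rcases hpair g h with he | hc
        · exact habT g c ha b (he ▸ hb)
        · exact hc c ha b hb
      exact fun b hb => (Subgroup.mem_centralizer_iff.1 (this hb)) a rfl
    refine nonabelian X hN fun a ha b hb => ?_
    have : N ≤ Subgroup.centralizer {b} := hgenle _ fun g x hx => by
      rw [Subgroup.mem_centralizer_iff]
      intro c hcb
      rw [Set.mem_singleton_iff] at hcb
      subst hcb
      exact (hall g x hx c hb).symm
    exact ((Subgroup.mem_centralizer_iff.1 (this ha)) b rfl).symm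
  have hsimp : ∀ h, IsSimpleGroup (cT h) := by
    haveI hT' : IsSimpleGroup T := by
      haveI : Nontrivial T := (Subgroup.nontrivial_iff_ne_bot T).2 hT1
      refine ⟨fun Y hY => ?_⟩
      let Y' : Subgroup H := Y.map T.subtype
      have hTY : T ≤ Subgroup.normalizer (Y' : Set H) := by
        intro t ht
        rw [Subgroup.mem_normalizer_iff]
        intro x
        constructor
        · rintro ⟨y, hy, rfl⟩
          exact ⟨⟨t, ht⟩ * y * ⟨t, ht⟩⁻¹, hY.conj_mem y hy _, rfl⟩
        · rintro ⟨y, hy, hyx⟩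
          refine ⟨⟨t, ht⟩⁻¹ * y * ⟨t, ht⟩, by simpa using hY.conj_mem y hy ⟨t, ht⟩⁻¹, ?_⟩
          have : (y : H) = t * x * t⁻¹ := hyx
          simp [this, mul_assoc]
      have hNY : N ≤ Subgroup.normalizer (Y' : Set H) := hgenle _ fun h a ha => by
        rcases hpair h 1 with he | hc
        · exact hTY (hone ▸ he ▸ ha)
        · refine Subgroup.centralizer_le_normalizer _ ?_
          rw [Subgroup.mem_centralizer_iff]
          intro b hb
          obtain ⟨y, _, rfl⟩ := hb
          exact (hc a ha _ (hone.symm ▸ y.2)).symm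
      rcases hTmin Y' hNY (Subgroup.map_subtype_le _) with h | h
      · exact Or.inl ((Subgroup.map_eq_bot_iff_of_injective _ T.subtype_injective).1 h)
      · exact Or.inr (Subgroup.map_injective T.subtype_injective (h.trans (by
          rw [← MonoidHom.range_eq_map, Subgroup.range_subtype])))
    intro h
    haveI : Nontrivial (cT h) := (Subgroup.nontrivial_iff_ne_bot _).2 fun hb => hT1
      ((Subgroup.map_eq_bot_iff_of_injective T
        (f := (MulAut.conj h).toMonoidHom) (MulAut.conj h).injective).1 hb)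
    exact IsSimpleGroup.isSimpleGroup_of_surjective
      (T.equivMapOfInjective (MulAut.conj h).toMonoidHom (MulAut.conj h).injective).toMonoidHom
      (MulEquiv.surjective _)
  by_cases hTeq : ∀ h, cT h = T
  · have hTN' : T = N := le_antisymm hTN (hgenle T fun h => (hTeq h).le)
    haveI := hsimp 1
    refine ⟨T, hTN' ▸ hN.normal, hone ▸ hsimp 1, fun hc => ?_, hTN' ▸ centralizer_eq_bot X hN⟩
    exact hTna 1 (by
      rw [hone]
      exact fun a ha b hb => congrArg Subtype.val (hc.is_comm.comm (⟨a, ha⟩ : T) ⟨b, hb⟩))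
  exfalso
  push Not at hTeq
  obtain ⟨h₀, hh₀⟩ := hTeq
  have hc : ∀ a ∈ cT 1, ∀ b ∈ cT h₀, a * b = b * a :=
    (hpair 1 h₀).resolve_left fun h => hh₀ (h.symm.trans hone)
  -- every conjugate lies outside all stabilisers
  have hnot : ∀ g (x : V), x ≠ 0 → ¬ ∀ a ∈ cT g, ρ a x = x := by
    intro g x hx hfix
    obtain ⟨M, hM, hMx⟩ := X.max x hx
    haveI := hN.normal
    have hNM := not_le_stab X hN.normal hN.ne_bot hx hMx
    have hsup : N ⊔ M = ⊤ := hM.2 _ (lt_of_le_of_ne le_sup_right fun h => hNM (h ▸ le_sup_left))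
    refine hNM (hgenle M fun h b hb => ?_)
    obtain ⟨n, hn, m, hm, hnm⟩ := Subgroup.mem_sup_of_normal_left.1
      (hsup ▸ Subgroup.mem_top (g * h⁻¹) : g * h⁻¹ ∈ N ⊔ M)
    have h1 : (g * h⁻¹) * b * (g * h⁻¹)⁻¹ ∈ cT g := by
      rw [hmem]
      simpa [mul_assoc] using (hmem h b).1 hb
    have h2 := hnmem n⁻¹ (N.inv_mem hn) g _ h1
    have h3 : m * b * m⁻¹ ∈ M := (hMx _).2 (hfix _ (by
      rw [← hnm] at h2
      simpa [mul_assoc] using h2))
    simpa [mul_assoc] using M.mul_mem (M.mul_mem (M.inv_mem hm) h3) hm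
  -- stabilisers in a conjugate are self-normalising
  have hno : ∀ g₀, ¬ HasMoved (ρ.comp (cT g₀).subtype) := by
    rintro g₀ ⟨x, ⟨g, hg⟩, ⟨u, hu⟩, hu1, hux, hnorm, hgx⟩
    change ρ u x = x at hux
    change ρ g x ≠ x at hgx
    have hx : x ≠ 0 := fun h => hgx (by rw [h, map_zero])
    obtain ⟨M, hM, hMx⟩ := X.max x hx
    let S : Set H := {r | r ∈ M ∧ ∃ h, r ∈ cT h}
    let K := Subgroup.closure S
    have hKM : K ≤ M := (Subgroup.closure_le M).2 fun r hr => hr.1
    have hKn : ∀ a : H, (∀ r ∈ S, a * r * a⁻¹ ∈ K) → a ∈ Subgroup.normalizer (K : Set H) := by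
      intro a ha
      have hle : K.map (MulAut.conj a).toMonoidHom ≤ K := by
        rw [MonoidHom.map_closure, Subgroup.closure_le]
        rintro _ ⟨r, hr, rfl⟩
        exact ha r hr
      have heq := Subgroup.eq_of_le_of_card_ge hle (le_of_eq (Nat.card_congr
        (K.equivMapOfInjective _ (MulAut.conj a).injective).toEquiv))
      rw [Subgroup.mem_normalizer_iff]
      intro y
      constructor
      · exact fun hy => hle ⟨y, hy, rfl⟩
      · intro hy
        rw [← heq] at hy
        obtain ⟨y', hy', he⟩ := hy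
        rwa [← show y' = y from (MulAut.conj a).injective he]
    have hMK : M ≤ Subgroup.normalizer (K : Set H) := fun m hm => hKn m fun r hr =>
      Subgroup.subset_closure ⟨M.mul_mem (M.mul_mem hm hr.1) (M.inv_mem hm), by
        obtain ⟨h, hrh⟩ := hr.2
        exact ⟨m * h, by rw [hmul]; simpa [mul_assoc] using hrh⟩⟩
    have hgK : g⁻¹ ∈ Subgroup.normalizer (K : Set H) := hKn _ fun r hr => by
      rw [inv_inv]
      obtain ⟨hrM, h, hrh⟩ := hr
      rcases hpair g₀ h with he | hc'
      · rw [← he] at hrh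
        refine Subgroup.subset_closure ⟨(hMx _).2 ?_, g₀,
          (cT g₀).mul_mem ((cT g₀).mul_mem ((cT g₀).inv_mem hg) hrh) hg⟩
        exact hnorm ⟨r, hrh⟩ ((hMx r).1 hrM)
      · rw [mul_assoc, ← hc' g hg r hrh, inv_mul_cancel_left]
        exact Subgroup.subset_closure ⟨hrM, h, hrh⟩
    rcases hM.le_iff.1 hMK with h | h
    · have hKnormal : K.Normal := Subgroup.normalizer_eq_top_iff.1 h
      refine hx (nofix X hKnormal (fun hb => hu1 (Subtype.ext ?_)) fun c hc => (hMx c).1 (hKM hc))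
      have : u ∈ K := Subgroup.subset_closure ⟨(hMx u).2 hux, g₀, hu⟩
      rw [hb, Subgroup.mem_bot] at this
      exact this
    · rw [h] at hgK
      exact hgx ((hMx g).1 (inv_mem_iff.1 hgK))
  haveI := hsimp 1
  haveI := hsimp h₀
  haveI := nontrivialV X
  refine (tensor_moved (ρ.comp (cT 1).subtype) (ρ.comp (cT h₀).subtype) (fun h => hTna 1 fun a ha b hb =>
      congrArg Subtype.val (h ⟨a, ha⟩ ⟨b, hb⟩))
    (fun h => hTna h₀ fun a ha b hb => congrArg Subtype.val (h ⟨a, ha⟩ ⟨b, hb⟩))
    (fun a b v => by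
      show ρ a.1 (ρ b.1 v) = ρ b.1 (ρ a.1 v)
      rw [← rep_mul_apply, ← rep_mul_apply, hc a.1 a.2 b.1 b.2])
    (fun v hv => by_contra fun h => hnot 1 v h fun a ha => hv ⟨a, ha⟩)
    (fun v hv => by_contra fun h => hnot h₀ v h fun a ha => hv ⟨a, ha⟩)
    (two_zero X)).elim (hno 1) (hno h₀)

end Cfsg.Agent.Lib.ExtremePrim64
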