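import Cfsg.Agent.Lib.ExtremePrim64.FixLemma

/-!
Two commuting non-abelian simple groups in characteristic two: some vector has a non-trivial
stabiliser in one of them which is not self-normalising.
-/

set_option autoImplicit false
set_option linter.unusedSectionVars false

namespace Cfsg.Agent.Lib.ExtremePrim64

variable {k V T T' : Type*} [Field k] [AddCommGroup V] [Module k V] [Finite V]
  [Group T] [Finite T] [IsSimpleGroup T] [Group T'] [Finite T'] [IsSimpleGroup T']

/-- A vector whose stabiliser is non-trivial and is normalised by an element outside it. -/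
def HasMoved (ρ : Representation k T V) : Prop :=
  ∃ (x : V) (g h : T), h ≠ 1 ∧ ρ h x = x ∧ (∀ t, ρ t x = x → ρ (g⁻¹ * t * g) x = x) ∧ ρ g x ≠ x

theorem conj_fix {E U S : Type*} [Field E] [AddCommGroup U] [Module E U] [Group S] [Finite S]
    (σ : Representation E S U) {L : Submodule E U} {g t : S} (hg : ∀ x ∈ L, σ g x ∈ L)
    (ht : ∀ x ∈ L, σ t x = x) : ∀ x ∈ L, σ (g⁻¹ * t * g) x = x := by
  intro x hx
  rw [rep_mul_apply, rep_mul_apply, ht _ (hg x hx), rep_inv_apply]

theorem exists_invariant (ρ : Representation k T V) [Nontrivial V] :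
    ∃ W : Submodule k V, W ≠ ⊥ ∧ (∀ t, ∀ w ∈ W, ρ t w ∈ W) ∧
      ∀ U : Submodule k V, U ≤ W → (∀ t, ∀ w ∈ U, ρ t w ∈ U) → U = ⊥ ∨ U = W := by
  classical
  haveI : Finite (Submodule k V) := Finite.of_injective _ SetLike.coe_injective
  haveI : Nonempty {W : Submodule k V // W ≠ ⊥ ∧ ∀ t, ∀ w ∈ W, ρ t w ∈ W} :=
    ⟨⟨⊤, top_ne_bot, fun _ _ _ => trivial⟩⟩
  obtain ⟨⟨W, hW, hWi⟩, hmin⟩ := Finite.exists_min
    (fun W : {W : Submodule k V // W ≠ ⊥ ∧ ∀ t, ∀ w ∈ W, ρ t w ∈ W} => Nat.card W.1)
  refine ⟨W, hW, hWi, fun U hU hUi => or_iff_not_imp_left.2 fun h => ?_⟩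
  apply SetLike.coe_injective
  refine Set.eq_of_subset_of_ncard_le hU ?_ (Set.toFinite _)
  rw [← Nat.card_coe_set_eq, ← Nat.card_coe_set_eq]
  exact hmin ⟨U, h, hUi⟩

theorem injective_of_moved {S : Type*} [Group S] [IsSimpleGroup S] {M : Type*} [Monoid M]
    (f : S →* M) (h : ∃ s, f s ≠ 1) : Function.Injective f := by
  rw [← f.ker_eq_bot_iff]
  refine (MonoidHom.normal_ker f).eq_bot_or_eq_top.resolve_right fun h' => ?_
  obtain ⟨s, hs⟩ := h
  exact hs (MonoidHom.mem_ker.1 (h' ▸ Subgroup.mem_top s))

theorem tensor_moved (ρ : Representation k T V) (ρ' : Representation k T' V) [Nontrivial V]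
    (hna : ¬ ∀ a b : T, a * b = b * a) (hna' : ¬ ∀ a b : T', a * b = b * a)
    (hcomm : ∀ a b (v : V), ρ a (ρ' b v) = ρ' b (ρ a v))
    (hfix : ∀ v, (∀ t, ρ t v = v) → v = 0) (hfix' : ∀ v, (∀ t, ρ' t v = v) → v = 0)
    (h2 : ∀ v : V, v + v = 0) : HasMoved ρ ∨ HasMoved ρ' := by
  classical
  obtain ⟨W, hWne, hWi, hWmin⟩ := exists_invariant ρ
  obtain ⟨w₀, hw₀, hw₀ne⟩ := W.ne_bot_iff.1 hWne
  let σ : T → Module.End k W := fun t => (ρ t).restrict (hWi t)
  have hσ : ∀ t (w : W), (σ t w : V) = ρ t w := fun t w => rfl
  let C : Subalgebra k (Module.End k W) := Subalgebra.centralizer k (Set.range σ)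
  have hC : ∀ (a : C) t (w : W), a.1 (σ t w) = σ t (a.1 w) := by
    intro a t w
    exact (LinearMap.congr_fun ((Subalgebra.mem_centralizer_iff k).1 a.2 _ ⟨t, rfl⟩) w).symm
  have hsimple : ∀ U : Submodule k W, (∀ t, ∀ w ∈ U, σ t w ∈ U) → U = ⊥ ∨ U = ⊤ := by
    intro U hU
    rcases hWmin (U.map W.subtype) (Submodule.map_subtype_le _ _) (by
      rintro t _ ⟨w, hw, rfl⟩
      exact ⟨σ t w, hU t w hw, rfl⟩) with h | h
    · left
      exact Submodule.map_injective_of_injective W.injective_subtype (by rw [h, Submodule.map_bot])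
    · right
      exact Submodule.map_injective_of_injective W.injective_subtype
        (by rw [h, Submodule.map_subtype_top])
  haveI : Nontrivial W := Submodule.nontrivial_iff_ne_bot.2 hWne
  haveI : NoZeroDivisors C := ⟨fun {a b} hab => by
    by_contra! h
    have hinj : ∀ (c : C), c ≠ 0 → ∀ w, c.1 w = 0 → w = 0 := by
      intro c hc w hw
      rcases hsimple (LinearMap.ker c.1) (fun t w hw => by
        rw [LinearMap.mem_ker] at hw ⊢
        rw [hC, hw, map_zero]) with h' | h'
      · exact (Submodule.eq_bot_iff _).1 h' w hw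
      · exact absurd (Subtype.ext (LinearMap.ker_eq_top.1 h')) hc
    refine h.2 (Subtype.ext (LinearMap.ext fun w => hinj a h.1 _ ?_))
    exact LinearMap.congr_fun (congrArg Subtype.val hab) w⟩
  haveI : Nontrivial C := ⟨⟨0, 1, fun h => by
    have := LinearMap.congr_fun (congrArg Subtype.val h) ⟨w₀, hw₀⟩
    exact hw₀ne (congrArg Subtype.val this).symm⟩⟩
  haveI : Finite C := Finite.of_injective (fun c : C => (c.1 : W → W))
    (fun a b h => Subtype.ext (LinearMap.ext (congrFun h)))
  haveI : IsDomain C := NoZeroDivisors.to_isDomain C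
  letI : Field C := (Finite.isDomain_to_isField C).toField
  -- the group on `W`, linear over the commutant
  let ρW : Representation C T W :=
    { toFun := fun t =>
        { toFun := σ t
          map_add' := map_add (σ t)
          map_smul' := fun a w => (hC a t w).symm }
      map_one' := LinearMap.ext fun w => Subtype.ext (by
        show ρ 1 (w : V) = (w : V)
        rw [map_one, Module.End.one_apply])
      map_mul' := fun s t => LinearMap.ext fun w => Subtype.ext (rep_mul_apply ρ s t w) }
  have hρW : ∀ t (w : W), ρW t w = σ t w := fun _ _ => rfl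
  have hinjW : Function.Injective ρW := injective_of_moved ρW (by
    by_contra! h
    exact hw₀ne (hfix w₀ fun t => by
      have := congrArg Subtype.val (LinearMap.congr_fun (h t) ⟨w₀, hw₀⟩)
      exact this))
  -- equivariant maps into `V`
  let P : Submodule k (W →ₗ[k] V) :=
    { carrier := {φ | ∀ t w, φ (σ t w) = ρ t (φ w)}
      add_mem' := fun {a b} ha hb t w => by simp only [LinearMap.add_apply, ha t w, hb t w, map_add]
      zero_mem' := fun t w => by simp only [LinearMap.zero_apply, map_zero]
      smul_mem' := fun c a ha t w => by simp only [LinearMap.smul_apply, ha t w, map_smul] }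
  letI : SMul C P := ⟨fun a φ => ⟨φ.1.comp a.1, fun t w => by
    show φ.1 (a.1 (σ t w)) = ρ t (φ.1 (a.1 w))
    rw [hC, φ.2]⟩⟩
  have hsmul : ∀ (a : C) (φ : P) w, (a • φ).1 w = φ.1 (a • w) := fun _ _ _ => rfl
  letI : Module C P :=
    { one_smul := fun φ => Subtype.ext (LinearMap.ext fun w => rfl)
      mul_smul := fun a b φ => Subtype.ext (LinearMap.ext fun w => by
        rw [hsmul, hsmul, hsmul, mul_comm a b, mul_smul])
      smul_zero := fun a => Subtype.ext (LinearMap.ext fun w => rfl)
      smul_add := fun a φ ψ => Subtype.ext (LinearMap.ext fun w => rfl)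
      add_smul := fun a b φ => Subtype.ext (LinearMap.ext fun w => by
        rw [hsmul, add_smul, map_add]
        rfl)
      zero_smul := fun φ => Subtype.ext (LinearMap.ext fun w => map_zero φ.1) }
  haveI : Finite P := Finite.of_injective (fun c : P => (c.1 : W → V))
    (fun a b h => Subtype.ext (LinearMap.ext (congrFun h)))
  haveI : Module.Finite C W := Module.Finite.of_finite
  haveI : Module.Finite C P := Module.Finite.of_finite
  -- independent maps have independent images
  have hind : ∀ {n : ℕ} (φ : Fin n → P), LinearIndependent C φ → ∀ b : Fin n → W,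
      ∑ i, (φ i).1 (b i) = 0 → ∀ i, b i = 0 := by
    intro n φ hφ b hb
    suffices H : ∀ s : Finset (Fin n), ∀ b : Fin n → W,
        ∑ i ∈ s, (φ i).1 (b i) = 0 → ∀ i ∈ s, b i = 0 from fun i => H _ b hb i (Finset.mem_univ i)
    intro s
    induction s using Finset.induction_on with
    | empty => intro b _ i hi; simp at hi
    | insert i s his ih =>
      let Ψ : (s → W) →ₗ[k] V := ∑ j : s, (φ j).1.comp (LinearMap.proj j)
      have hΨ : ∀ c : s → W, Ψ c = ∑ j : s, (φ j).1 (c j) := fun c => by simp [Ψ]
      have hΨinj : Function.Injective Ψ := by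
        rw [← LinearMap.ker_eq_bot, LinearMap.ker_eq_bot']
        intro c hc
        rw [hΨ] at hc
        let c' : Fin n → W := fun j => if h : j ∈ s then c ⟨j, h⟩ else 0
        have := ih c' (by
          rw [← hc, ← Finset.sum_coe_sort]
          exact Finset.sum_congr rfl fun j _ => by simp [c', j.2])
        funext j
        simpa [c', j.2] using this j j.2
      have hΨequiv : ∀ t c, Ψ (fun j => σ t (c j)) = ρ t (Ψ c) := fun t c => by
        rw [hΨ, hΨ, map_sum]
        exact Finset.sum_congr rfl fun j _ => (φ j).2 t _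
      rcases hsimple ((LinearMap.range Ψ).comap (φ i).1) (fun t w hw => by
        obtain ⟨c, hc⟩ := hw
        exact ⟨fun j => σ t (c j), by rw [hΨequiv, hc, (φ i).2]⟩) with h | h
      · intro b hb
        rw [Finset.sum_insert his] at hb
        have hbi : b i = 0 := by
          refine (Submodule.eq_bot_iff _).1 h _ ⟨fun j => -b j, ?_⟩
          rw [hΨ, eq_neg_of_add_eq_zero_left hb, ← Finset.sum_coe_sort s, ← Finset.sum_neg_distrib]
          exact Finset.sum_congr rfl fun j _ => map_neg _ _
        rw [hbi, map_zero, zero_add] at hb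
        intro j hj
        rcases Finset.mem_insert.1 hj with rfl | hj
        · exact hbi
        · exact ih b hb j hj
      · exfalso
        let e := LinearEquiv.ofInjective Ψ hΨinj
        let G : W →ₗ[k] (s → W) := e.symm.toLinearMap.comp
          ((φ i).1.codRestrict (LinearMap.range Ψ) fun w => by
            have : w ∈ (LinearMap.range Ψ).comap (φ i).1 := by rw [h]; trivial
            exact this)
        have hG : ∀ w, Ψ (G w) = (φ i).1 w := fun w => by
          have : (e (G w) : V) = (φ i).1 w := by simp [G]
          exact this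
        have hGequiv : ∀ t w, G (σ t w) = fun j => σ t (G w j) := fun t w => hΨinj (by
          rw [hG, hΨequiv, hG, (φ i).2])
        let a : s → C := fun j => ⟨(LinearMap.proj j).comp G, by
          rw [Subalgebra.mem_centralizer_iff]
          rintro _ ⟨t, rfl⟩
          exact LinearMap.ext fun w => (congrFun (hGequiv t w) j).symm⟩
        have hi : φ i = ∑ j : s, a j • φ j := by
          apply Subtype.ext
          rw [AddSubmonoidClass.coe_finsetSum]
          refine LinearMap.ext fun w => ?_
          rw [LinearMap.sum_apply, ← hG, hΨ]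
          rfl
        refine hφ.notMem_span_image (s := (↑s : Set (Fin n))) (by simpa using his) ?_
        rw [hi]
        exact Submodule.sum_mem _ fun j _ =>
          Submodule.smul_mem _ _ (Submodule.subset_span ⟨j, j.2, rfl⟩)
  -- the other group on the equivariant maps
  let ρP : Representation C T' P :=
    { toFun := fun s =>
        { toFun := fun φ => ⟨(ρ' s).comp φ.1, fun t w => by
            show ρ' s (φ.1 (σ t w)) = ρ t (ρ' s (φ.1 w))
            rw [φ.2, hcomm]⟩
          map_add' := fun a b => Subtype.ext (LinearMap.ext fun w => map_add (ρ' s) _ _)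
          map_smul' := fun a φ => rfl }
      map_one' := LinearMap.ext fun φ => Subtype.ext (LinearMap.ext fun w => by
        show ρ' 1 (φ.1 w) = φ.1 w
        rw [map_one, Module.End.one_apply])
      map_mul' := fun s t => LinearMap.ext fun φ => Subtype.ext (LinearMap.ext fun w =>
        rep_mul_apply ρ' s t _) }
  have hρP : ∀ s (φ : P) w, (ρP s φ).1 w = ρ' s (φ.1 w) := fun _ _ _ => rfl
  have hinjP : Function.Injective ρP := injective_of_moved ρP (by
    by_contra! h
    let incl : P := ⟨W.subtype, fun t w => hσ t w⟩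
    exact hw₀ne (hfix' w₀ fun s => by
      have := LinearMap.congr_fun (congrArg Subtype.val (LinearMap.congr_fun (h s) incl)) ⟨w₀, hw₀⟩
      exact this))
  let e := Module.finBasis C P
  let f := Module.finBasis C W
  by_cases hdm : Module.finrank C W ≤ Module.finrank C P
  · left
    obtain ⟨L, u, g, hu, huL, hg, y, hyL, hy⟩ := exists_moved hna ρW hinjW
      (fun w => Subtype.ext (h2 w.1))
    haveI : Module.Free C L := Module.Free.of_divisionRing C L
    let b := Module.finBasis C L
    have hn : Module.finrank C L ≤ Module.finrank C P := (Submodule.finrank_le L).trans hdm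
    let φ : Fin (Module.finrank C L) → P := fun i => e (Fin.castLE hn i)
    have hφ : LinearIndependent C φ := e.linearIndependent.comp _ (Fin.castLE_injective hn)
    let x : V := ∑ i, (φ i).1 (b i).1
    have hst : ∀ t, ρ t x = x ↔ ∀ z ∈ L, ρW t z = z := by
      intro t
      have h1 : ρ t x - x = ∑ i, (φ i).1 (σ t (b i).1 - (b i).1) := by
        simp only [x, map_sum, map_sub, Finset.sum_sub_distrib]
        exact congrArg (· - _) (Finset.sum_congr rfl fun i _ => ((φ i).2 t _).symm)
      rw [← sub_eq_zero, h1]
      constructor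
      · intro h z hz
        have h0 := hind φ hφ _ h
        have : (ρW t).comp L.subtype = L.subtype := b.ext fun i => sub_eq_zero.1 (h0 i)
        exact LinearMap.congr_fun this ⟨z, hz⟩
      · intro h
        exact Finset.sum_eq_zero fun i _ => by
          rw [← hρW, h _ (b i).2, sub_self, map_zero]
    refine ⟨x, g, u, hu, (hst u).2 huL, fun t ht => (hst _).2 (conj_fix ρW hg ((hst t).1 ht)),
      fun h => hy ((hst g).1 h y hyL)⟩
  · right
    obtain ⟨L, u, g, hu, huL, hg, y, hyL, hy⟩ := exists_moved hna' ρP hinjP
      (fun φ => Subtype.ext (LinearMap.ext fun w => h2 _))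
    haveI : Module.Free C L := Module.Free.of_divisionRing C L
    let b := Module.finBasis C L
    have hn : Module.finrank C L ≤ Module.finrank C W :=
      (Submodule.finrank_le L).trans (le_of_not_ge hdm)
    let w : Fin (Module.finrank C L) → W := fun i => f (Fin.castLE hn i)
    have hw : LinearIndependent C w := f.linearIndependent.comp _ (Fin.castLE_injective hn)
    let x : V := ∑ i, (b i).1.1 (w i)
    have hst : ∀ s, ρ' s x = x ↔ ∀ z ∈ L, ρP s z = z := by
      intro s
      have h1 : ρ' s x - x = ∑ i, (ρP s (b i).1 - (b i).1).1 (w i) := by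
        simp only [x, map_sum, ← Finset.sum_sub_distrib]
        rfl
      rw [← sub_eq_zero, h1]
      constructor
      · intro h z hz
        let c : Fin (Module.finrank C L) → Fin (Module.finrank C P) → C :=
          fun i l => e.repr (ρP s (b i).1 - (b i).1) l
        have hc : ∀ i, (ρP s (b i).1 - (b i).1).1 (w i) = ∑ l, (e l).1 (c i l • w i) := by
          intro i
          conv_lhs => rw [← e.sum_repr (ρP s (b i).1 - (b i).1)]
          rw [AddSubmonoidClass.coe_finsetSum, LinearMap.sum_apply]
          rfl
        simp only [hc] at h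
        rw [Finset.sum_comm] at h
        simp only [← map_sum] at h
        have h0 := hind (fun l => e l) e.linearIndependent _ h
        have hz0 : ∀ i, ρP s (b i).1 - (b i).1 = 0 := fun i => e.ext_elem fun l => by
          rw [map_zero]
          exact Fintype.linearIndependent_iff.1 hw (fun i => c i l) (h0 l) i
        have : (ρP s).comp L.subtype = L.subtype := b.ext fun i => sub_eq_zero.1 (hz0 i)
        exact LinearMap.congr_fun this ⟨z, hz⟩
      · intro h
        exact Finset.sum_eq_zero fun i _ => by
          rw [h _ (b i).2, sub_self]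
          rfl
    refine ⟨x, g, u, hu, (hst u).2 huL, fun t ht => (hst _).2 (conj_fix ρP hg ((hst t).1 ht)),
      fun h => hy ((hst g).1 h y hyL)⟩

end Cfsg.Agent.Lib.ExtremePrim64
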